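import Cfsg.Agent.H63.Eleven.Coprime
import Cfsg.Agent.H58.Zass.Main
import Cfsg.Agent.H59.A5Char

/-!
A perfect non-trivial two-point centraliser of a `ACore` configuration is `SL₂(5)`: it acts without
fixed points on the regular normal subgroup modulo the point.
-/

set_option autoImplicit false
set_option linter.style.haveILetI false

namespace H78.Eleven

open H63.Eleven

universe u v

variable {G : Type u} {Ω : Type v} [Group G] [Finite G] [MulAction G Ω]

/-- A perfect two-point centraliser is trivial or of order 120. -/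
theorem perfect_V (A : ACore G Ω) {a b : Ω} (hab : a ≠ b) (hv : 1 < A.v)
    (hker : ∃ K : Subgroup G, K ≤ A.W a ∧ A.P a ≤ K ∧ Nat.card K = 11 * A.u ∧
      (∀ g k : G, g • a = a → k ∈ K → g * k * g⁻¹ ∈ K) ∧
      (∀ k ∈ K, k ≠ 1 → ∀ c : Ω, k • c = c → c = a) ∧ Group.IsNilpotent K)
    (hperf : commutator ↥(A.W a ⊓ MulAction.stabilizer G b : Subgroup G) = ⊤) : A.v = 120 := by
  classical
  obtain ⟨K, hKW, hPK, hKcard, hKnorm, hKfix, -⟩ := hker
  set V : Subgroup G := A.W a ⊓ MulAction.stabilizer G b with hV
  have hVa : ∀ x ∈ V, x • a = a := fun x hx => A.W_le a (Subgroup.mem_inf.1 hx).1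
  haveI hN : ((A.P a).subgroupOf K).Normal := ⟨fun n hn k => by
    rw [Subgroup.mem_subgroupOf] at hn ⊢
    have h := (A.W_iff a (k : G)).1 (hKW k.2) n hn
    have e : ((k * n * k⁻¹ : K) : G) = (n : G) := by
      push_cast
      rw [h, mul_inv_cancel_right]
    rw [e]; exact hn⟩
  let eK : V → (K ≃* K) := fun x =>
    { toFun := fun k => ⟨(x : G) * k * (x : G)⁻¹, hKnorm x k (hVa x x.2) k.2⟩
      invFun := fun k => ⟨(x : G)⁻¹ * k * (x : G), by
        have h := hKnorm (x : G)⁻¹ k (inv_smul_eq_iff.2 (hVa x x.2).symm) k.2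
        rwa [inv_inv] at h⟩
      left_inv := fun k => Subtype.ext (show (x : G)⁻¹ * ((x : G) * k * (x : G)⁻¹) * x = k by group)
      right_inv := fun k => Subtype.ext (show (x : G) * ((x : G)⁻¹ * k * (x : G)) * (x : G)⁻¹ = k by group)
      map_mul' := fun k l => Subtype.ext
        (show (x : G) * (k * l) * (x : G)⁻¹ = (x : G) * k * (x : G)⁻¹ * ((x : G) * l * (x : G)⁻¹) by
          group) }
  have heN : ∀ x : V, ((A.P a).subgroupOf K).map (eK x).toMonoidHom = (A.P a).subgroupOf K := by
    intro x
    have hfix : ∀ n : K, (n : G) ∈ A.P a → eK x n = n := fun n hn => Subtype.ext (by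
      show (x : G) * n * (x : G)⁻¹ = n
      rw [(A.W_iff a (x : G)).1 (Subgroup.mem_inf.1 x.2).1 n hn, mul_inv_cancel_right])
    ext n
    constructor
    · rintro ⟨m, hm, rfl⟩
      have hm' := Subgroup.mem_subgroupOf.1 hm
      show eK x m ∈ (A.P a).subgroupOf K
      rw [hfix m hm']; exact hm
    · intro hn
      exact ⟨n, hn, hfix n (Subgroup.mem_subgroupOf.1 hn)⟩
  have hq : ∀ (x : V) (k : K), QuotientGroup.congr _ _ (eK x) (heN x) (k : K ⧸ (A.P a).subgroupOf K) =
      ((eK x k : K) : K ⧸ (A.P a).subgroupOf K) := fun _ _ => rfl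
  let φ : V →* MulAut (K ⧸ (A.P a).subgroupOf K) :=
    { toFun := fun x => QuotientGroup.congr _ _ (eK x) (heN x)
      map_one' := by
        apply MulEquiv.ext
        intro q
        induction q using QuotientGroup.induction_on with
        | H k =>
          refine (hq 1 k).trans ?_
          refine congrArg _ (Subtype.ext ?_)
          show ((1 : V) : G) * k * ((1 : V) : G)⁻¹ = k
          simp
      map_mul' := fun x y => by
        apply MulEquiv.ext
        intro q
        induction q using QuotientGroup.induction_on with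
        | H k =>
          show _ = QuotientGroup.congr _ _ (eK x) (heN x) (QuotientGroup.congr _ _ (eK y) (heN y) (k : K ⧸ (A.P a).subgroupOf K))
          rw [hq, hq, hq]
          refine congrArg _ (Subtype.ext ?_)
          show ((x * y : V) : G) * k * ((x * y : V) : G)⁻¹ =
            (x : G) * ((y : G) * k * (y : G)⁻¹) * (x : G)⁻¹
          simp [mul_assoc] }
  have hline : ∀ (x : G), x ∈ A.W a → x • b = b → x ≠ 1 → ∀ c, a ≠ c → x • c ∈ A.line a c →
      c ∈ A.line a b := fun x hx hxb hx1 c hac hxc => by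
    by_contra h7
    exact A.not_second ⟨a, b, c, x, hab, hac, hx, hxb, hx1, hxc, h7⟩
  -- the point acts regularly on the remaining points of a line
  have htrans : ∀ c ∈ A.line a b, c ≠ a → ∃ p ∈ A.P a, p • b = c := by
    intro c hc hca
    haveI : Finite (A.line a b) := (Nat.card_pos_iff.1 (by rw [A.line_card a b hab]; norm_num)).2
    haveI : Fintype (A.line a b) := Fintype.ofFinite _
    let S := {d : A.line a b // (d : Ω) ≠ a}
    have hS : Nat.card S = 11 := by
      have e : Nat.card S = (Finset.univ.erase (⟨a, A.line_left a b hab⟩ : A.line a b)).card := by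
        rw [Nat.card_eq_fintype_card, Fintype.card_subtype]
        congr 1
        ext d
        simp [Subtype.ext_iff]
      rw [e, Finset.card_erase_of_mem (Finset.mem_univ _), Finset.card_univ,
        ← Nat.card_eq_fintype_card, A.line_card a b hab]
    let f : A.P a → S := fun p => ⟨⟨(p : G) • b, A.P_line a b p hab p.2⟩, fun e => by
      have e' : (p : G) • b = (p : G) • a := by
        rw [A.W_le a (A.P_le a p.2)]; exact e
      exact hab (smul_left_cancel (p : G) e').symm⟩
    have hf : Function.Injective f := by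
      intro p q e
      have e' : (p : G) • b = (q : G) • b := congrArg (fun d : S => (d.1 : Ω)) e
      by_contra hne
      have h1 : ((q : G)⁻¹ * p) ≠ 1 := fun h => hne (Subtype.ext (inv_mul_eq_one.1 h).symm)
      exact hab (A.P_fix a b _ ((A.P a).mul_mem ((A.P a).inv_mem q.2) p.2) h1
        (by rw [mul_smul, e', inv_smul_smul])).symm
    obtain ⟨p, hp⟩ := ((Nat.bijective_iff_injective_and_card f).2
      ⟨hf, by rw [A.card_P a, hS]⟩).2 ⟨⟨c, hc⟩, hca⟩
    exact ⟨p, p.2, congrArg (fun d : S => (d.1 : Ω)) hp⟩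
  have hfpf : ∀ x : V, x ≠ 1 → ∀ q, φ x q = q → q = 1 := by
    intro x hx q
    induction q using QuotientGroup.induction_on with
    | H k =>
      intro h
      rw [QuotientGroup.eq_one_iff, Subgroup.mem_subgroupOf]
      have h' : QuotientGroup.congr _ _ (eK x) (heN x) (k : K ⧸ (A.P a).subgroupOf K) = k := h
      rw [hq, QuotientGroup.eq, Subgroup.mem_subgroupOf] at h'
      by_contra hkP
      have hk1 : (k : G) ≠ 1 := fun e => hkP (e ▸ (A.P a).one_mem)
      have hka : (k : G) • a = a := A.W_le a (hKW k.2)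
      obtain ⟨hxW, hxb⟩ := Subgroup.mem_inf.1 x.2
      have hxb' : (x : G) • b = b := hxb
      have hca : (k : G) • b ≠ a := fun e => hab (by
        rw [← hka] at e; exact (smul_left_cancel _ e).symm)
      have hxc : (x : G) • ((k : G) • b) ∈ A.line a ((k : G) • b) := by
        -- `x` moves the image of `b` inside the orbit of the point
        set p := ((x : G) * k * (x : G)⁻¹)⁻¹ * (k : G) with hp
        have hpP : p ∈ A.P a := by
          simpa [p, eK] using h'
        have hcomm : Commute (k : G) p⁻¹ :=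
          (A.W_iff a (k : G)).1 (hKW k.2) p⁻¹ ((A.P a).inv_mem hpP)
        have e : (x : G) • ((k : G) • b) = p⁻¹ • ((k : G) • b) := by
          calc (x : G) • ((k : G) • b) = ((x : G) * k * (x : G)⁻¹) • ((x : G) • b) := by
                rw [← mul_smul, ← mul_smul, inv_mul_cancel_right]
            _ = ((k : G) * p⁻¹) • b := by rw [hxb']; congr 1; simp [p, mul_assoc]
            _ = p⁻¹ • ((k : G) • b) := by rw [hcomm.eq, mul_smul]
        rw [e]
        exact A.P_line a _ p⁻¹ hca.symm ((A.P a).inv_mem hpP)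
      have hc := hline (x : G) hxW hxb' (fun e => hx (Subtype.ext e)) _ hca.symm hxc
      obtain ⟨p, hp, e⟩ := htrans _ hc hca
      have hpk : (p⁻¹ * (k : G)) • b = b := by rw [mul_smul, ← e, inv_smul_smul]
      have hmem : p⁻¹ * (k : G) ∈ K := K.mul_mem (K.inv_mem (hPK hp)) k.2
      have h1 : p⁻¹ * (k : G) = 1 := by
        by_contra h1
        exact hab (hKfix _ hmem h1 b hpk).symm
      rw [inv_mul_eq_one] at h1
      exact hkP (h1 ▸ hp)
  haveI : Nontrivial V := Finite.one_lt_card_iff_nontrivial.1 (by rw [A.card_V a b hab]; exact hv)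
  haveI : Nontrivial (K ⧸ (A.P a).subgroupOf K) := Finite.one_lt_card_iff_nontrivial.1 (by
    rw [← Subgroup.index_eq_card]
    have h := ((A.P a).subgroupOf K).card_mul_index
    rw [Nat.card_congr (Subgroup.subgroupOfEquivOfLe hPK).toEquiv, A.card_P a, hKcard] at h
    have hu := A.one_lt_u
    have h' : ((A.P a).subgroupOf K).index = A.u := Nat.eq_of_mul_eq_mul_left (by norm_num) h
    omega)
  obtain ⟨e⟩ := H58.perfect_fpf_iso_sl25 (H58.fcInt_of_fpf_aut φ hfpf) hperf
  rw [← A.card_V a b hab, Nat.card_congr e.toEquiv]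
  exact H59.card_SL25

end H78.Eleven
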